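import Cfsg.Agent.H91.Theta.Sub

/-!
The subsystem of maps of trivial value: properties needed for normality and saturation.
-/

set_option autoImplicit false
set_option linter.style.haveILetI false

namespace Cfsg.Agent.H91.Theta

open Cfsg Cfsg.FusionSystem Cfsg.Agent.FusionSys Cfsg.Agent.H91.CentFocal Cfsg.Agent.H91.CentSE
open Cfsg.FusionSystem (centralizerIn normalizerIn)

variable {Ω : Type*} [Group Ω] {S T : Subgroup Ω} {F : FusionSystem S} {E : FusionSystem T} {p : ℕ}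
  {Δ : Type*} [Group Δ] {χ : F.autGroup T →* Δ}

theorem isConj_F_of_F0 {P Q : Subgroup Ω} (h : (F0 F E χ).IsConj P Q) : F.IsConj P Q := by
  obtain ⟨f, hf⟩ := isConj_iff.1 h
  exact (isIso_of_sub F0_sub hf).isConj

variable [Finite S]

/-- Images of fully normalized subgroups under automorphisms of `S` are fully normalized. -/
theorem isFullyNormalized_aut {Q : Subgroup Ω} (hQ : F.IsFullyNormalized Q) {a : MulAut S}
    (ha : a ∈ F.autGroup S) : F.IsFullyNormalized (imgSub (autMap a) Q) := by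
  have ham : IsMap F S (autMap a) := (mem_autGroup_iff le_rfl).1 ha
  have haQ := ham.mono hQ.1
  have hi := haQ.isIso
  haveI := finite_of_le (S := S) (P := normalizerIn S (imgSub (autMap a) Q)) normalizerIn_le
  refine ⟨haQ.imgSub_le, fun R hR => (hQ.2 R (isConj_trans hi.isConj hR)).trans ?_⟩
  exact card_le_of_mapsTo (ham.mono normalizerIn_le) le_rfl fun x hx =>
    hi.mem_normalizerIn_of_extends (ham.mono normalizerIn_le) (le_normalizerIn_self hQ.1)
      (fun _ _ => rfl) hx hx.2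

variable [Fact p.Prime] [Finite Δ] (hS : IsPGroup p S) (hF : F.IsSaturated p) (hEs : E.IsSaturated p)
  (hE : E.IsInvariantIn F) (hΔ : (Nat.card Δ).Coprime p)
  (hker : ∀ a : F.autGroup T, (a : MulAut T) ∈ E.autGroup T → χ a = 1) (hχ : Function.Surjective χ)
include hS hF hEs hE hΔ hker hχ

/-- An `F`-conjugate is the image under an automorphism of `S` of an `F0`-conjugate. -/
theorem exists_F0_conj {P Q : Subgroup Ω} (h : F.IsConj P Q) :
    ∃ a ∈ F.autGroup S, (F0 F E χ).IsConj P (imgSub (autMap a) Q) := by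
  obtain ⟨f, hf⟩ := isConj_iff.1 h
  obtain ⟨a, ha, g, hg, hge⟩ := decompose hS hF hEs hE hΔ hker hχ hf.isMap
  refine ⟨a⁻¹, Subgroup.inv_mem _ ha, isConj_iff.2 ⟨g, isMap_F0_iff.2 hg, ?_⟩⟩
  have ham : IsMap F S (autMap a⁻¹) := (mem_autGroup_iff le_rfl).1 (Subgroup.inv_mem _ ha)
  have hgx : ∀ x ∈ P, autMap a⁻¹ (f x) = g x := fun x hx => by
    rw [hge x hx, ← autMap_mul _ _ (hg.isMap.mem_S hx), inv_mul_cancel,
      FusionSys.autMap_one (hg.isMap.mem_S hx)]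
  rw [(ham.mono hf.target_le).coe_imgSub, ← hf.image_eq, ← Set.image_comp]
  exact (Set.image_congr hgx).symm

theorem exists_fn {P : Subgroup Ω} (hP : P ≤ S) :
    ∃ Q, F.IsFullyNormalized Q ∧ (F0 F E χ).IsConj P Q := by
  obtain ⟨Q, hQ, hQn⟩ := exists_isFullyNormalized F hP
  obtain ⟨a, ha, h⟩ := exists_F0_conj hS hF hEs hE hΔ hker hχ hQ
  exact ⟨_, isFullyNormalized_aut hQn ha, h⟩

theorem isCentric_of_F0 {P : Subgroup Ω} (h : (F0 F E χ).IsCentric P) : F.IsCentric P := by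
  refine ⟨h.1, fun Q hQ c hc => ?_⟩
  obtain ⟨a, ha, hc'⟩ := exists_F0_conj hS hF hEs hE hΔ hker hχ hQ
  have ham : IsMap F S (autMap a) := (mem_autGroup_iff le_rfl).1 ha
  have hQS := le_of_isConj_right hQ
  have hi := (ham.mono hQS).isIso
  have := h.2 _ hc' (hi.mem_centralizerIn_of_extends ham hQS (fun _ _ => rfl) hc.1 hc)
  obtain ⟨q, hq, hqe⟩ := hi.exists_preimage this
  exact ham.injOn (hQS hq) hc.1 hqe ▸ hq

/-- `Aut_{F0}(P)` contains the `p`-elements of `Aut_F(P)`. -/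
theorem hasPrimeToPIndexIn : (F0 F E χ).HasPrimeToPIndexIn F p := by
  refine ⟨F0_sub, fun P hP => ?_⟩
  rw [Subgroup.map_le_iff_le_comap, Subgroup.closure_le]
  rintro α ⟨n, hn⟩
  obtain ⟨Q, hQn, hc⟩ := exists_fn hS hF hEs hE hΔ hker hχ hP
  obtain ⟨h, hh⟩ := isConj_iff.1 hc
  have hhF := isIso_of_sub F0_sub hh
  haveI := finite_autGroup F hQn.1
  set N : Subgroup (F.autGroup Q) := ((F0 F E χ).autGroup Q).subgroupOf (F.autGroup Q) with hN
  haveI hNn : N.Normal := ⟨fun δ hδ θ => by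
    rw [hN, Subgroup.mem_subgroupOf] at hδ ⊢
    have hθm : IsMap F Q (autMap (θ : MulAut Q)) := (mem_autGroup_iff hQn.1).1 θ.2
    obtain ⟨a, ha, g, hg, hge⟩ := decompose hS hF hEs hE hΔ hker hχ hθm
    obtain ⟨g', hg', hg'g⟩ := hg.exists_inv
    have hδ0 : InF0 F E χ Q (autMap (δ : MulAut Q)) :=
      isMap_F0_iff.1 ((mem_autGroup_iff hQn.1).1 hδ)
    have hm1 : ∀ y ∈ imgSub g Q, g' y ∈ Q := fun y hy => by
      obtain ⟨x, hx, rfl⟩ := hg.isMap.mem_imgSub.1 hy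
      exact (hg'g x hx).symm ▸ hx
    have hmid : InF0 F E χ (imgSub g Q) (g ∘ (autMap (δ : MulAut Q) ∘ g')) :=
      (hg'.comp hδ0 hm1).comp hg fun y hy => autMap_mem _ (hm1 y hy)
    obtain ⟨k, hk, hke⟩ := hmid.twist hS hEs hE hΔ hker ha hF
    have ham : IsMap F S (autMap a) := (mem_autGroup_iff le_rfl).1 ha
    refine mem_autGroup_of_isMap ((isMap_F0_iff.2 (hk.mono fun z hz => ?_)).congr fun z hz => ?_)
    · obtain ⟨x, hx, rfl⟩ := (isIso_autMap hQn.1 θ.2).exists_preimage hz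
      exact (ham.mono hg.isMap.imgSub_le).mem_imgSub.2
        ⟨g x, hg.isMap.mem_imgSub.2 ⟨x, hx, rfl⟩, (hge x hx).symm⟩
    · obtain ⟨x, hx, rfl⟩ := (isIso_autMap hQn.1 θ.2).exists_preimage hz
      have hkx : k (autMap (θ : MulAut Q) x) = autMap (θ : MulAut Q) (autMap (δ : MulAut Q) x) := by
        rw [hge x hx, hke _ (hg.isMap.mem_imgSub.2 ⟨x, hx, rfl⟩), Function.comp_apply,
          Function.comp_apply, hg'g x hx, ← hge _ (autMap_mem _ hx)]
      rw [hkx, Subgroup.coe_mul, Subgroup.coe_mul, Subgroup.coe_inv,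
        autMap_mul _ _ (autMap_mem _ hx), ← autMap_mul (θ : MulAut Q)⁻¹ _ hx, inv_mul_cancel,
        FusionSys.autMap_one hx, autMap_mul _ _ hx]⟩
  obtain ⟨-, Sy, hSy⟩ := isFullyAutomized_of_isFullyNormalized hS hF hQn
  have hle : (Sy : Subgroup (F.autGroup Q)) ≤ N := by
    rw [hSy]
    exact fun γ hγ => autInducedBy_le_autGroup (F0 F E χ) hQn.1 hγ
  set β : F.autGroup Q := ⟨hhF.autEquiv α, hhF.autEquiv_mem_autGroup α.2⟩ with hβ
  have hβp : β ^ p ^ n = 1 := Subtype.ext (by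
    rw [SubgroupClass.coe_pow, Subgroup.coe_one, hβ, ← map_pow, ← SubgroupClass.coe_pow, ← hn,
      pow_orderOf_eq_one, Subgroup.coe_one, map_one])
  have hz : IsPGroup p (Subgroup.zpowers β) := by
    obtain ⟨i, -, hi⟩ := (Nat.dvd_prime_pow (Fact.out : p.Prime)).1 (orderOf_dvd_of_pow_eq_one hβp)
    exact IsPGroup.of_card (n := i) (by rw [Nat.card_zpowers, hi])
  obtain ⟨Sy', hSy'⟩ := hz.exists_le_sylow
  obtain ⟨γ, hγ⟩ := MulAction.exists_smul_eq (F.autGroup Q) Sy Sy'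
  have hβN : β ∈ N := by
    have hm := hSy' (Subgroup.mem_zpowers β)
    rw [← hγ, Sylow.coe_subgroup_smul] at hm
    obtain ⟨x, hx, hxe⟩ := hm
    rw [← hxe]
    exact hNn.conj_mem x (hle hx) γ
  rw [hN, Subgroup.mem_subgroupOf] at hβN
  have key : hh.autEquiv (α : MulAut P) ∈ (F0 F E χ).autGroup Q := hβN
  rw [← hh.map_autGroup] at key
  obtain ⟨α', hα', he⟩ := key
  obtain rfl := hh.autEquiv.injective he
  exact hα'

/-- Centric subgroups outside `Hp` have a conjugate with an outer `p`-automorphism from `S` in `O_p`. -/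
theorem exists_star {P : Subgroup Ω} (hPc : (F0 F E χ).IsCentric P) (hP : ¬ Hp F T P) :
    ∃ Q, (F0 F E χ).IsConj P Q ∧
      ¬ (autInducedBy S Q ⊓ (pCore p ((F0 F E χ).autGroup Q)).map ((F0 F E χ).autGroup Q).subtype ≤
        Inn Q) := by
  have hT := hE.2.1
  have hPS : P ≤ S := hPc.1
  have hR₀S : P ⊓ T ≤ S := inf_le_left.trans hPS
  haveI : Finite T := finite_of_le hT.1
  haveI : Finite P := finite_of_le hPS
  obtain ⟨R', hc, hR'n⟩ := exists_isFullyNormalized F hR₀S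
  have key : ¬ centralizerIn T R' ≤ R' := fun key => hP ⟨hPS, fun Q hQ c hcm => by
    obtain ⟨u, hu, hui, -⟩ :=
      exists_map_to_fullyNormalized hS hF hR'n (isConj_trans (isConj_symm hQ) hc)
    obtain ⟨hcT, hcc⟩ := FusionSys.mem_centralizerIn.1 hcm
    have hcC : c ∈ centralizerIn S Q := FusionSys.mem_centralizerIn.2 ⟨hT.1 hcT, hcc⟩
    have hcN := centralizerIn_le_normalizerIn hcC
    have h1 : u c ∈ centralizerIn T R' := FusionSys.mem_centralizerIn.2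
      ⟨(stronglyClosed_iff.1 hT).2 (Subgroup.zpowers c) u (Subgroup.zpowers_le.2 hcT)
          (hu.mono (Subgroup.zpowers_le.2 hcN)) c (Subgroup.mem_zpowers c),
        (FusionSys.mem_centralizerIn.1 (hui.mem_centralizerIn_of_extends hu
          (le_normalizerIn_self hui.source_le) (fun _ _ => rfl) hcN hcC)).2⟩
    obtain ⟨q, hq, hqe⟩ := hui.exists_preimage (key h1)
    exact hu.injOn (le_normalizerIn_self hui.source_le hq) hcN hqe ▸ hq⟩
  obtain ⟨g, hg, hgi, -⟩ := exists_map_to_fullyNormalized hS hF hR'n hc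
  have hPN : P ≤ normalizerIn S (P ⊓ T) := fun a ha => by
    haveI : Finite (P ⊓ T : Subgroup Ω) := finite_of_le hR₀S
    exact ⟨hPS ha, mem_normalizer_of_maps fun r hr =>
      ⟨P.mul_mem (P.mul_mem ha hr.1) (P.inv_mem ha), conj_mem_closed hT (hPS ha) hr.2⟩⟩
  have hgP := (hg.mono hPN).isIso
  set P' := imgSub g P with hP'
  have hP'T : ∀ w ∈ P', w ∈ T → w ∈ R' := fun w hw hwT => by
    obtain ⟨w₀, hw₀, rfl⟩ := hgP.exists_preimage hw
    obtain ⟨v, hv, hvg, -⟩ := hgP.exists_symm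
    have hvT := (stronglyClosed_iff.1 hT).2 (P' ⊓ T) v inf_le_right (hv.isMap.mono inf_le_left)
      (g w₀) ⟨hgP.mem hw₀, hwT⟩
    rw [hvg w₀ hw₀] at hvT
    exact hgi.mem ⟨hw₀, hvT⟩
  have hP'NR : ∀ w ∈ P', w ∈ Subgroup.normalizer (R' : Set Ω) := fun w hw => by
    obtain ⟨w₀, hw₀, rfl⟩ := hgP.exists_preimage hw
    exact (hgi.mem_normalizerIn_of_extends hg (le_normalizerIn_self hR₀S) (fun _ _ => rfl)
      (hPN hw₀) (hPN hw₀).2).2
  have hP'S : P' ≤ S := hgP.target_le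
  obtain ⟨c, hcm, hcn, hcP⟩ : ∃ c, c ∈ centralizerIn T R' ∧
      c ∈ Subgroup.normalizer (P' : Set Ω) ∧ c ∉ P' := by
    by_contra hno
    push Not at hno
    refine key fun c hcm => hP'T c ?_ hcm.1
    by_contra hcn
    set Cc := centralizerIn T R' with hCc
    haveI : Finite Cc := finite_of_le (S := T) centralizerIn_le
    have hnorm : P' ≤ Subgroup.normalizer (Cc : Set Ω) := fun a ha => by
      refine mem_normalizer_of_maps fun d hd => ?_
      obtain ⟨hd1, hd2⟩ := FusionSys.mem_centralizerIn.1 hd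
      refine FusionSys.mem_centralizerIn.2
        ⟨conj_mem_closed hT (hP'S ha) hd1, fun r hr => ?_⟩
      have hr' := (Subgroup.mem_normalizer_iff''.1 (hP'NR a ha) r).1 hr
      calc r * (a * d * a⁻¹) = a * (a⁻¹ * r * a * d) * a⁻¹ := by group
        _ = a * (d * (a⁻¹ * r * a)) * a⁻¹ := by rw [hd2 _ hr']
        _ = _ := by group
    have hKS : P' ⊔ Cc ≤ S := sup_le hP'S (centralizerIn_le.trans hT.1)
    haveI : Finite (P' ⊔ Cc : Subgroup Ω) := finite_of_le hKS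
    have hlt : P' < P' ⊔ Cc := lt_of_le_of_ne le_sup_left fun he =>
      hcn (he ▸ Subgroup.mem_sup_right hcm)
    obtain ⟨d, hd, hdn⟩ := SetLike.exists_of_lt (lt_inf_normalizer_of_lt (hS.to_le hKS) hlt)
    obtain ⟨hd1, hd2⟩ := Subgroup.mem_inf.1 hd
    rw [← SetLike.mem_coe, Subgroup.coe_mul_of_left_le_normalizer_right _ _ hnorm] at hd1
    obtain ⟨a, ha, b, hb, rfl⟩ := Set.mem_mul.1 hd1
    refine hdn (P'.mul_mem ha (hno b hb ?_))
    have := mul_mem (inv_mem (Subgroup.le_normalizer ha)) hd2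
    rwa [inv_mul_cancel_left] at this
  obtain ⟨a, ha, hQ⟩ := exists_F0_conj hS hF hEs hE hΔ hker hχ hgP.isConj
  refine ⟨_, hQ, fun hle => ?_⟩
  set Q := imgSub (autMap a) P' with hQdef
  have ham : IsMap F S (autMap a) := (mem_autGroup_iff le_rfl).1 ha
  have haP := (ham.mono hP'S).isIso
  have hQS : Q ≤ S := haP.target_le
  haveI : Finite Q := finite_of_le hQS
  have hcS : c ∈ S := hT.1 hcm.1
  set c' := autMap a c with hc'
  have hc'n : c' ∈ normalizerIn S Q :=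
    haP.mem_normalizerIn_of_extends ham hP'S (fun _ _ => rfl) hcS hcn
  have hc'T : c' ∈ T :=
    (stronglyClosed_iff.1 hT).2 T _ le_rfl (ham.mono hT.1) c hcm.1
  have hc'P : c' ∉ Q := fun h => by
    obtain ⟨q, hq, hqe⟩ := haP.exists_preimage h
    exact hcP (ham.injOn (hP'S hq) hcS hqe ▸ hq)
  have hmem : conjAut hc'n.2 ∈
      (pCore p ((F0 F E χ).autGroup Q)).map ((F0 F E χ).autGroup Q).subtype := by
    refine CentSE.mem_pCore_of_stab (F := F0 F E χ) (R₀ := Q ⊓ T) hS hQS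
      (fun θ hθ x hx hxR => ⟨autMap_mem θ hx, ?_⟩) (conjAut_mem_autGroup _ hQS hc'n) (fun x hx hxR => ?_)
      fun x hx => ?_
    · exact (stronglyClosed_iff.1 hT).2 (Q ⊓ T) (autMap θ) inf_le_right
        ((isMap_of_sub F0_sub ((mem_autGroup_iff hQS).1 hθ)).mono inf_le_left) x ⟨hx, hxR.2⟩
    · obtain ⟨q, hq, rfl⟩ := haP.exists_preimage hxR.1
      obtain ⟨v, hv, hva, -⟩ := haP.exists_symm
      have hqT : q ∈ T := by
        have := (stronglyClosed_iff.1 hT).2 (Q ⊓ T) v inf_le_right (hv.isMap.mono inf_le_left) _ hxR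
        rwa [hva q hq] at this
      rw [autMap_conjAut _ hx, conjMap_apply, hc', ← ham.map_conj hcS (hP'S hq),
        ← (FusionSys.mem_centralizerIn.1 hcm).2 q (hP'T q hq hqT), mul_inv_cancel_right]
    · rw [autMap_conjAut _ hx, conjMap_apply]
      refine ⟨Q.mul_mem (Q.inv_mem hx) ((Subgroup.mem_normalizer_iff.1 hc'n.2 x).1 hx), ?_⟩
      have := T.mul_mem (conj_mem_closed hT (S.inv_mem (hQS hx)) hc'T) (T.inv_mem hc'T)
      rwa [inv_inv, show x⁻¹ * c' * x * c'⁻¹ = x⁻¹ * (c' * x * c'⁻¹) by group] at this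
  have hinn := hle ⟨mem_autInducedBy.2 ⟨c', hc'n.1, hc'n.2, rfl⟩, hmem⟩
  exact hc'P (mem_of_conjAut_mem_inn
    (hPc.2 Q hQ) hQS hc'n.1 hc'n.2 hinn)

/-- Subgroups in `Hp` are, up to conjugacy, fully automized and receptive. -/
theorem exists_automized_receptive {P : Subgroup Ω} (hP : Hp F T P) :
    ∃ Q, (F0 F E χ).IsConj P Q ∧ (F0 F E χ).IsFullyAutomized p Q ∧ (F0 F E χ).IsReceptive Q := by
  obtain ⟨Q, hQn, hc⟩ := exists_fn hS hF hEs hE hΔ hker hχ hP.1
  refine ⟨Q, hc, ?_, receptive_of_extend hQn.1 fun A f N hf hAN hN => ?_⟩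
  · have hA := (isFullyAutomized_iff hS).1 (isFullyAutomized_of_isFullyNormalized hS hF hQn)
    refine (isFullyAutomized_iff hS).2 ⟨hQn.1, fun hd => hA.2 (dvd_trans hd ?_)⟩
    have h1 : autInducedBy S Q ≤ (F0 F E χ).autGroup Q := autInducedBy_le_autGroup _ hQn.1
    have h2 : (F0 F E χ).autGroup Q ≤ F.autGroup Q := fun α hα =>
      mem_autGroup_of_isMap (isMap_of_sub F0_sub ((mem_autGroup_iff hQn.1).1 hα))
    rw [← Subgroup.relIndex_mul_relIndex _ _ _ h1 h2]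
    exact dvd_mul_right _ _
  · have hfF := isIso_of_sub F0_sub hf
    obtain ⟨g, hg, hge⟩ := receptive_extend (receptive_of_isFullyNormalized hS hF hQn) hfF
      (N := N) fun x hx => (hN x).1 hx
    replace hg : IsMap F N g := hg.mono le_sup_left
    have hA : Hp F T A :=
      hP.of_isConj hE.2.1 (isConj_trans (isConj_F_of_F0 hc) (isConj_symm hfF.isConj))
    have hNp : Hp F T N := hA.mono hAN hg.le
    obtain ⟨d, hd⟩ := Val.exists (P := N) hE χ hg
    have h1 : Val F E χ A g 1 :=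
      Val.congr χ (val_of_InF0 hS hF hEs hE hΔ hker hA (isMap_F0_iff.1 hf.isMap)) hge
    obtain rfl := Val.unique hS hF hEs hE hΔ χ hker hA.2 (Val.mono χ hd hAN) h1
    exact ⟨g, isMap_F0_of_val hNp hg hd, hge⟩

/-- The saturation criterion applies. -/
theorem isSaturated
    (crit : ∀ (D : FusionSystem S) (ℋ : Set (Subgroup Ω)), (∀ P ∈ ℋ, P ≤ S) →
      (∀ P ∈ ℋ, ∀ Q, D.IsConj P Q → Q ∈ ℋ) →
      (∀ P ∈ ℋ, ∃ Q, D.IsConj P Q ∧ D.IsFullyAutomized p Q ∧ D.IsReceptive Q) →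
      (∀ E : FusionSystem S, (∀ P ∈ ℋ, D.Hom P ⊆ E.Hom P) → D ≤ E) →
      (∀ P : Subgroup Ω, D.IsCentric P → P ∉ ℋ → ∃ Q, D.IsConj P Q ∧
        ¬ (autInducedBy S Q ⊓ (pCore p (D.autGroup Q)).map (D.autGroup Q).subtype ≤ Inn Q)) →
      D.IsSaturated p) :
    (F0 F E χ).IsSaturated p := by
  refine crit _ {P | Hp F T P} (fun P hP => hP.1)
    (fun P hP Q hQ => hP.of_isConj hE.2.1 (isConj_F_of_F0 hQ))
    (fun P hP => exists_automized_receptive hS hF hEs hE hΔ hker hχ hP) (fun E' hE' => ?_)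
    (fun P hPc hP => exists_star hS hF hEs hE hΔ hker hχ hPc hP)
  rw [le_iff_isMap]
  intro P f hf
  refine isMap_F0_iff.1 hf E' fun Q g hQ hg hv => ?_
  obtain ⟨φ, hφ, hφe⟩ := isMap_F0_of_val hQ hg hv
  exact ⟨φ, hE' Q hQ hφ, hφe⟩

theorem isNormalIn (hsat : (F0 F E χ).IsSaturated p) : (F0 F E χ).IsNormalIn F p := by
  refine ⟨⟨hsat, hF, F0_sub, Cfsg.Agent.H89.stronglyClosed_top F, fun P hP φ hφ a ha => ?_,
    fun P hP φ hφ => ?_⟩, fun α hα => ?_⟩
  · obtain ⟨g, hg, hge⟩ := (isMap_F0_iff.1 (isMap_of_mem hφ)).twist hS hEs hE hΔ hker ha hF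
    have ham : IsMap F S (autMap a) := (mem_autGroup_iff le_rfl).1 ha
    have himg : (P.subgroupOf S).map (S.subtype.comp a.toMonoidHom) = imgSub (autMap a) P := by
      ext z
      constructor
      · rintro ⟨w, hw, rfl⟩
        exact (ham.mono hP).mem_imgSub.2 ⟨w, hw, autMap_coe a w⟩
      · intro hz
        obtain ⟨x, hx, rfl⟩ := (ham.mono hP).mem_imgSub.1 hz
        exact ⟨⟨x, hP hx⟩, hx, (autMap_apply a (hP hx)).symm⟩
    obtain ⟨χ', hχ', hχ'e⟩ := (isMap_F0_iff.2 (hg.mono himg.le) : IsMap (F0 F E χ)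
      ((P.subgroupOf S).map (S.subtype.comp a.toMonoidHom)) g)
    refine ⟨χ', hχ', fun x hφx hax => ?_⟩
    rw [hχ'e]
    show g ((a ⟨(x : Ω), hP x.2⟩ : S) : Ω) = _
    rw [← autMap_apply a (hP x.2), hge x x.2, homFun_coe, autMap_apply a hφx]
  · obtain ⟨a, ha, g, hg, hge⟩ := decompose hS hF hEs hE hΔ hker hχ (isMap_of_mem hφ)
    obtain ⟨φ₀, hφ₀, hφ₀e⟩ := isMap_F0_iff.2 hg
    refine ⟨a, ha, φ₀, hφ₀, fun x hx => ?_⟩
    rw [← autMap_apply a hx, hφ₀e x, ← hge x x.2, homFun_coe]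
  · have hX : S ⊔ centralizerIn S S = S := sup_eq_left.2 centralizerIn_le
    have hαm : IsMap F S (autMap α) := isMap_of_sub F0_sub ((mem_autGroup_iff le_rfl).1 hα)
    haveI : Finite (S ⊔ centralizerIn S S : Subgroup Ω) := finite_of_le (S := S) hX.le
    obtain ⟨β, hβ, hβe⟩ := (isIso_of_mapsTo (hαm.mono hX.le) fun x hx =>
      Subgroup.mem_sup_left (hαm.mem_S (hX.le hx))).exists_aut
    refine ⟨β, hβ, fun x => ?_, fun c hc => ?_⟩
    · rw [← autMap_coe β, Subgroup.coe_inclusion, hβe _ (Subgroup.mem_sup_left x.2), autMap_coe]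
    · rw [← autMap_coe β, hβe _ c.2]
      obtain ⟨hcS, hcc⟩ := FusionSys.mem_centralizerIn.1 hc
      refine ⟨S.mul_mem (S.inv_mem hcS) (autMap_mem α hcS),
        Subgroup.mul_mem _ (Subgroup.inv_mem _ hcc) fun y hy => ?_⟩
      obtain ⟨y₀, hy₀, rfl⟩ :=
        (isIso_autMap (F := F) le_rfl (mem_autGroup_of_isMap hαm)).exists_preimage hy
      rw [← hαm.map_mul hy₀ hcS, ← hαm.map_mul hcS hy₀, hcc y₀ hy₀]

theorem sub_F0 (hEn : E.IsNormalIn F p) : E.IsSubsystemOf (F0 F E χ) := by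
  have hT := hE.2.1
  have hTp : IsPGroup p T := hS.to_le hT.1
  haveI : Finite T := finite_of_le hT.1
  let E₀ : FusionSystem T := subSys E (fun P f => InF0 F E χ P f) (fun _ _ _ h he => h.congr he)
    (fun _ _ hP ha => InF0.conj (hP.trans hT.1) (hT.1 ha))
    (fun _ _ _ _ _ _ hm h1 h2 => h1.comp h2 hm) (fun P Q f g hf hg hinv h => by
      obtain ⟨g', hg', hg'f⟩ := h.exists_inv
      rw [← (isIso_of_sub hE.1 hf).eq_imgSub] at hg'
      refine hg'.congr fun y hy => ?_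
      obtain ⟨x, hx, rfl⟩ := hf.exists_preimage hy
      rw [hinv x hx, hg'f x hx])
  refine isSubsystemOf_iff_isMap.2 fun P f hf => ?_
  suffices hle : E ≤ E₀ by
    obtain ⟨φ, ⟨-, h⟩, hφe⟩ := le_iff_isMap.1 hle P f hf
    exact isMap_F0_iff.2 (h.congr fun x hx => by rw [homFun_mem φ hx]; exact (hφe ⟨x, hx⟩).symm)
  refine le_of_autGroup_centricRadical hTp hEs fun R hRn hRc _ α hα => ?_
  have hRT : R ≤ T := hRn.1
  obtain ⟨Q, hQn, hc⟩ := exists_fn hS hF hEs hE hΔ hker hχ (hRT.trans hT.1)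
  obtain ⟨g, hg⟩ := isConj_iff.1 hc
  have hgi := isIso_of_sub F0_sub hg
  have hQc : E.IsCentric Q := isCentric_target hE hRc hgi
  have hQT : Q ≤ T := hQc.1
  have hα' := CentFocal.autEquiv_mem hE hRT hgi hα
  obtain ⟨β, hβ, hβe, hβc⟩ := hasExt_all hS hF hEn hQc hQn hα'
  set X := Q ⊔ centralizerIn S Q with hX
  have hXT : X ⊓ T ≤ Q := by
    intro x hx
    obtain ⟨hx1, hx2⟩ := Subgroup.mem_inf.1 hx
    have hn : centralizerIn S Q ≤ Subgroup.normalizer (Q : Set Ω) :=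
      le_sup_right.trans le_normalizer_self_sup
    rw [← SetLike.mem_coe, Subgroup.coe_mul_of_right_le_normalizer_left _ _ hn] at hx1
    obtain ⟨q, hq, d, hd, rfl⟩ := Set.mem_mul.1 hx1
    refine Q.mul_mem hq (hQc.2 Q (isConj_refl E hQT) (FusionSys.mem_centralizerIn.2
      ⟨?_, (FusionSys.mem_centralizerIn.1 hd).2⟩))
    have := T.mul_mem (T.inv_mem (hQT hq)) hx2
    rwa [inv_mul_cancel_left] at this
  have hXp : Hp F T X := by
    refine ⟨hβ.le, fun R' hR' => ?_⟩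
    have he : X ⊓ T = Q := _root_.le_antisymm hXT (le_inf le_sup_left hQT)
    rw [he] at hR'
    obtain ⟨u, hu⟩ := isConj_iff.1 hR'
    exact (isCentric_target hE hQc hu).2 R'
      (isConj_refl E (target_le_of_closed hT hQT hu))
  have hv : Val F E χ X β 1 := ⟨1, map_one χ, autMap (hgi.autEquiv α),
    ((mem_autGroup_iff hQT).1 hα').mono hXT, fun x hx => by
      rw [Subgroup.coe_one, hβe x (hXT hx), FusionSys.autMap_one (hQT (autMap_mem _ (hXT hx)))]⟩
  have hQ0 : hg.autEquiv α ∈ (F0 F E χ).autGroup Q :=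
    mem_autGroup_of_isMap (((isMap_F0_of_val hXp hβ hv).mono le_sup_left).congr fun x hx =>
      (hβe x hx).symm)
  rw [← hg.map_autGroup] at hQ0
  obtain ⟨α', hα'', he⟩ := hQ0
  have hα0 : α ∈ (F0 F E χ).autGroup R := hg.autEquiv.injective he ▸ hα''
  refine mem_autGroup_of_isMap ?_
  obtain ⟨φ, hφ, hφe⟩ := (mem_autGroup_iff hRT).1 hα
  exact ⟨φ, ⟨hφ, (isMap_F0_iff.1 ((mem_autGroup_iff (hRT.trans hT.1)).1 hα0)).congr
    fun x hx => (homFun_mem φ hx).trans (hφe ⟨x, hx⟩)⟩, hφe⟩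

/-- The automorphisms of `S` in the subsystem. -/
theorem mem_autGroup_top {α : MulAut S} :
    α ∈ (F0 F E χ).autGroup S ↔ α ∈ F.autGroup S ∧
      ∃ β : F.autGroup T, χ β = 1 ∧ ∀ x ∈ T, autMap (β : MulAut T) x = autMap α x := by
  have hT := hE.2.1
  haveI : Finite T := finite_of_le hT.1
  constructor
  · intro h
    have h0 := isMap_F0_iff.1 ((mem_autGroup_iff le_rfl).1 h)
    obtain ⟨a, ha, φ, hφ, he⟩ := val_of_InF0 hS hF hEs hE hΔ hker (hp_top hT) h0
    have hφT : IsMap E T φ := hφ.mono (le_inf hT.1 le_rfl)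
    obtain ⟨ψ, hψ, hψe⟩ := (isIso_of_mapsTo hφT fun x hx => hφT.mem_S hx).exists_aut
    have hψF : ψ ∈ F.autGroup T :=
      mem_autGroup_of_isMap (isMap_of_sub hE.1 ((mem_autGroup_iff le_rfl).1 hψ))
    refine ⟨mem_autGroup_of_isMap h0.isMap, a * ⟨ψ, hψF⟩, ?_, fun x hx => ?_⟩
    · rw [map_mul, ha, hker ⟨ψ, hψF⟩ hψ, mul_one]
    · rw [Subgroup.coe_mul, autMap_mul _ _ hx, hψe x hx, he x ⟨hT.1 hx, hx⟩]
  · rintro ⟨hα, β, hβ, hβe⟩
    exact mem_autGroup_of_isMap (isMap_F0_of_val (hp_top hT) ((mem_autGroup_iff le_rfl).1 hα)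
      ⟨β, hβ, id, isMap_id E inf_le_right, fun x hx => (hβe x hx.2).symm⟩)

theorem ne_top [Nontrivial Δ] : ¬ ∀ P : Subgroup Ω, (F0 F E χ).Hom P = F.Hom P := by
  intro h
  obtain ⟨d, hd⟩ := exists_ne (1 : Δ)
  obtain ⟨a, ha, hv⟩ := exists_aut_top hS hF hE hΔ hχ d
  obtain ⟨φ, hφ, hφe⟩ := (mem_autGroup_iff le_rfl).1 ha
  rw [← h S] at hφ
  exact hd (Val.unique hS hF hEs hE hΔ χ hker (hp_top hE.2.1).2 hv
    (val_of_InF0 hS hF hEs hE hΔ hker (hp_top hE.2.1) (isMap_F0_iff.1 ⟨φ, hφ, hφe⟩)))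

end Cfsg.Agent.H91.Theta
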