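import Cfsg.Agent.H91.CentSE.Good

/-!
A character of `Aut_F(T)` trivial on `Aut_E(T)` and of order prime to `p` defines a character on all maps
of `F` whose source meets `T` in a subgroup containing its centralizers.
-/

set_option autoImplicit false
set_option linter.style.haveILetI false

namespace Cfsg.Agent.H91.Theta

open Cfsg Cfsg.FusionSystem Cfsg.Agent.FusionSys Cfsg.Agent.H91.CentFocal Cfsg.Agent.H91.CentSE
open Cfsg.FusionSystem (centralizerIn normalizerIn)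

variable {Ω : Type*} [Group Ω] {S T : Subgroup Ω} {F : FusionSystem S} {E : FusionSystem T} {p : ℕ}
  {Δ : Type*} [Group Δ]

/-- `f` has value `d`: on `P ∩ T` it is a map of `E` followed by an element of `χ⁻¹ d`. -/
def Val (F : FusionSystem S) (E : FusionSystem T) (χ : F.autGroup T →* Δ) (P : Subgroup Ω) (f : Ω → Ω)
    (d : Δ) : Prop :=
  ∃ a : F.autGroup T, χ a = d ∧ ∃ φ, IsMap E (P ⊓ T) φ ∧ ∀ x ∈ P ⊓ T, f x = autMap (a : MulAut T) (φ x)

theorem aut_pMap_eq_one [Finite Δ] (hΔ : (Nat.card Δ).Coprime p) (χ : F.autGroup T →* Δ)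
    {a : F.autGroup T} {n : ℕ} (h : a ^ p ^ n = 1) : χ a = 1 := by
  have h1 : orderOf (χ a) ∣ p ^ n := orderOf_dvd_of_pow_eq_one (by rw [← map_pow, h, map_one])
  have h2 : orderOf (χ a) ∣ Nat.card Δ := orderOf_dvd_natCard _
  exact orderOf_eq_one_iff.1
    (Nat.eq_one_of_dvd_coprimes ((Nat.Coprime.pow_left n hΔ.symm)) h1 h2)

variable [Finite S] [Fact p.Prime] [Finite Δ]

/-- An element of `Aut_F(T)` agreeing on a self-centralizing subgroup with a map of `E` has trivial value. -/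
theorem value_eq_one (hS : IsPGroup p S) (hF : F.IsSaturated p) (hEs : E.IsSaturated p)
    (hE : E.IsInvariantIn F) (hΔ : (Nat.card Δ).Coprime p) (χ : F.autGroup T →* Δ)
    (hker : ∀ a : F.autGroup T, (a : MulAut T) ∈ E.autGroup T → χ a = 1) (R : Subgroup Ω) (hRT : R ≤ T)
    (hR : Ctr F T R) (b : F.autGroup T) (ψ : Ω → Ω) (hψ : IsMap E R ψ)
    (hb : ∀ x ∈ R, autMap (b : MulAut T) x = ψ x) : χ b = 1 := by
  have hT := hE.2.1
  have hTS := hT.1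
  haveI : Finite T := finite_of_le hTS
  have hTp : IsPGroup p T := hS.to_le hTS
  induction hn : Nat.card T - Nat.card R using Nat.strong_induction_on generalizing R b ψ with
  | _ n ih =>
  rcases hRT.eq_or_lt with hRe | hRlt
  · subst hRe
    exact hker b (mem_autGroup_of_isMap (hψ.congr hb))
  set R₂ := normalizerIn T R with hR₂
  have hlt : R < R₂ := lt_inf_normalizer_of_lt hTp hRlt
  have hR₂T : R₂ ≤ T := inf_le_left
  have hR₂S : R₂ ≤ S := hR₂T.trans hTS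
  haveI : Finite R₂ := finite_of_le hR₂S
  haveI : Finite R := finite_of_le (hRT.trans hTS)
  have hbT : IsIso F T T (autMap (b : MulAut T)) := isIso_autMap hTS b.2
  set B₁ := imgSub ψ R with hB₁
  have hψi := hψ.isIso
  have hB₁c : Ctr F T B₁ := hR.of_isConj (isIso_of_sub hE.1 hψi).isConj
  have hB₁E : E.IsCentric B₁ := ⟨hψ.imgSub_le, fun Q hQ => hB₁c Q (by
    obtain ⟨u, hu⟩ := isConj_iff.1 hQ
    exact (isIso_of_sub hE.1 hu).isConj)⟩
  obtain ⟨ψ₂, hψ₂, hψ₂e⟩ := receptive_extend (receptive_of_isFullyCentralized hTp hEs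
    (isFullyCentralized_of_centric_le (E := E) (le_refl' E) hB₁E)) hψi (N := R₂) fun t ht =>
      ⟨ht.1, ht.2, autMap (b : MulAut T) t, autMap_mem _ ht.1, fun x hx => by
        rw [← hb x hx, ← hb _ ((Subgroup.mem_normalizer_iff.1 ht.2 x).1 hx),
          hbT.isMap.map_conj ht.1 (hRT hx)]⟩
  replace hψ₂ : IsMap E R₂ ψ₂ := hψ₂.mono le_sup_left
  have hψ₂R : ∀ x ∈ R, ψ₂ x = autMap (b : MulAut T) x := fun x hx => (hψ₂e x hx).trans (hb x hx).symm
  have hdiff : ∀ t ∈ R₂, (autMap (b : MulAut T) t)⁻¹ * ψ₂ t ∈ B₁ := fun t ht => by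
    refine hB₁c B₁ (isConj_refl F (hψ.imgSub_le.trans hTS)) (FusionSys.mem_centralizerIn.2
      ⟨T.mul_mem (T.inv_mem (autMap_mem _ ht.1)) (hψ₂.mem_S ht), fun y hy => ?_⟩)
    obtain ⟨x, hx, rfl⟩ := hψ.mem_imgSub.1 hy
    rw [← hb x hx]
    have h1 := hψ₂.map_conj ht (hlt.le hx)
    rw [hψ₂R x hx, hψ₂R _ ((Subgroup.mem_normalizer_iff.1 ht.2 x).1 hx),
      hbT.isMap.map_conj ht.1 (hRT hx)] at h1
    calc autMap (b : MulAut T) x * ((autMap (b : MulAut T) t)⁻¹ * ψ₂ t)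
        = (autMap (b : MulAut T) t)⁻¹ *
          (autMap (b : MulAut T) t * autMap (b : MulAut T) x * (autMap (b : MulAut T) t)⁻¹) * ψ₂ t := by
          group
      _ = _ := by rw [h1]; group
  set B₂ := imgSub ψ₂ R₂ with hB₂
  have hψ₂i := hψ₂.isIso
  have hB₁₂ : B₁ ≤ B₂ := fun y hy => by
    obtain ⟨x, hx, rfl⟩ := hψ.mem_imgSub.1 hy
    exact hψ₂.mem_imgSub.2 ⟨x, hlt.le hx, hψ₂e x hx⟩
  have hbB : ∀ t ∈ R₂, autMap (b : MulAut T) t ∈ B₂ := fun t ht => by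
    have h := B₂.mul_mem (hψ₂i.mem ht) (B₂.inv_mem (hB₁₂ (hdiff t ht)))
    rwa [_root_.mul_inv_rev, inv_inv, mul_inv_cancel_left] at h
  obtain ⟨v, hv, hvψ, hψv⟩ := hψ₂i.exists_symm
  have hδm : IsMap F R₂ (v ∘ autMap (b : MulAut T)) :=
    (hbT.isMap.mono hR₂T).comp (isMap_of_sub hE.1 hv.isMap) hbB
  obtain ⟨δ, hδ, hδe⟩ := (isIso_of_mapsTo hδm fun t ht => hv.mem (hbB t ht)).exists_aut
  have hδR : ∀ x ∈ R, autMap δ x = x := fun x hx => by
    rw [hδe x (hlt.le hx), Function.comp_apply, ← hψ₂R x hx, hvψ x (hlt.le hx)]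
  have hδmod : ∀ t ∈ R₂, t⁻¹ * autMap δ t ∈ R := fun t ht => by
    rw [hδe t ht, Function.comp_apply]
    obtain ⟨x, hx, hxe⟩ := hψ.mem_imgSub.1 (B₁.inv_mem (hdiff t ht))
    have h : autMap (b : MulAut T) t = ψ₂ (t * x) := by
      rw [hψ₂.map_mul ht (hlt.le hx), hψ₂e x hx, hxe, _root_.mul_inv_rev, inv_inv, mul_inv_cancel_left]
    rw [h, hvψ _ (R₂.mul_mem ht (hlt.le hx)), inv_mul_cancel_left]
    exact hx
  have hδp : ∃ m : ℕ, δ ^ p ^ m = 1 := by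
    obtain ⟨m, hm⟩ := IsPGroup.iff_card.1 (hS.to_le hR₂S)
    refine ⟨m, aut_ext fun t ht => ?_⟩
    have hdP : t⁻¹ * autMap δ t ∈ R₂ := hlt.le (hδmod t ht)
    have hδM : IsMap F R₂ (autMap δ) := (mem_autGroup_iff hR₂S).1 hδ
    have key : ∀ j : ℕ, autMap (δ ^ j) t = t * (t⁻¹ * autMap δ t) ^ j := by
      intro j
      induction j with
      | zero => rw [pow_zero, pow_zero, FusionSys.autMap_one ht, mul_one]
      | succ j ih' =>
        rw [pow_succ', autMap_mul _ _ ht, ih', hδM.map_mul ht (R₂.pow_mem hdP j),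
          hδR _ (R.pow_mem (hδmod t ht) j), pow_succ', ← mul_assoc t, mul_inv_cancel_left]
    rw [key, ← hm, show (t⁻¹ * autMap δ t) ^ Nat.card R₂ = 1 from
      congrArg Subtype.val (pow_card_eq_one' (x := (⟨_, hdP⟩ : R₂))), mul_one, FusionSys.autMap_one ht]
  obtain ⟨m, hm⟩ := hδp
  -- move the automorphism into `Aut_S`
  obtain ⟨Q, hQc, hQn⟩ := exists_isFullyNormalized F hR₂S
  obtain ⟨g, hg, hgi, -⟩ := exists_map_to_fullyNormalized hS hF hQn hQc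
  haveI := finite_autGroup F hQn.1
  obtain ⟨-, Sy, hSy⟩ := isFullyAutomized_of_isFullyNormalized hS hF hQn
  set δQ : F.autGroup Q := ⟨hgi.autEquiv δ, hgi.autEquiv_mem_autGroup hδ⟩ with hδQ
  have hδQp : δQ ^ p ^ m = 1 := Subtype.ext (by
    rw [SubgroupClass.coe_pow, Subgroup.coe_one, hδQ, ← map_pow, hm, map_one])
  have hz : IsPGroup p (Subgroup.zpowers δQ) := by
    obtain ⟨i, -, hi⟩ := (Nat.dvd_prime_pow (Fact.out : p.Prime)).1 (orderOf_dvd_of_pow_eq_one hδQp)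
    exact IsPGroup.of_card (n := i) (by rw [Nat.card_zpowers, hi])
  obtain ⟨Sy', hSy'⟩ := hz.exists_le_sylow
  obtain ⟨γ, hγ⟩ := MulAction.exists_smul_eq (F.autGroup Q) Sy' Sy
  have hmem : γ * δQ * γ⁻¹ ∈ (Sy : Subgroup (F.autGroup Q)) := by
    rw [← hγ, Sylow.coe_subgroup_smul]
    exact ⟨δQ, hSy' (Subgroup.mem_zpowers _), rfl⟩
  rw [hSy] at hmem
  obtain ⟨s, hsS, hsn, hse⟩ := mem_autInducedBy.1 hmem
  have hg' : IsIso F R₂ Q (autMap (γ : MulAut Q) ∘ g) := hgi.comp (isIso_autMap hQn.1 γ.2)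
  have hgs : ∀ t ∈ R₂, (autMap (γ : MulAut Q) ∘ g) (autMap δ t) =
      s * (autMap (γ : MulAut Q) ∘ g) t * s⁻¹ := fun t ht => by
    have hgt := hgi.mem ht
    have h1 := congrArg (fun α : MulAut Q => autMap α (autMap (γ : MulAut Q) (g t))) hse
    rw [Subgroup.coe_subtype, Subgroup.coe_mul, Subgroup.coe_mul, Subgroup.coe_inv] at h1
    rw [autMap_conjAut _ (autMap_mem _ hgt), conjMap_apply,
      autMap_mul _ _ (autMap_mem _ hgt), autMap_mul _ _ (autMap_mem _ (autMap_mem _ hgt)),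
      ← autMap_mul _ _ hgt, inv_mul_cancel, FusionSys.autMap_one hgt] at h1
    simp only [Function.comp_apply]
    rw [← hgi.autMap_autEquiv δ ht]
    exact h1
  have hsm : IsMap F T (conjMap s) := isMap_conj F hTS hsS
  have hsT : ∀ x ∈ T, conjMap s x ∈ T := fun x hx => conj_mem_closed hT hsS hx
  obtain ⟨cs, hcs, hcse⟩ := (isIso_of_mapsTo hsm hsT).exists_aut
  obtain ⟨a₀, ha₀, φ₀, hφ₀, hφ₀e⟩ := frattini_map hE hR₂T hg'.isMap
  set k : F.autGroup T := (⟨a₀, ha₀⟩ : F.autGroup T)⁻¹ * ⟨cs, hcs⟩ * ⟨a₀, ha₀⟩ with hk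
  have hkp : χ k = 1 := by
    have h1 : (cs : MulAut T) ^ Nat.card S = 1 := by
      have key : ∀ j : ℕ, ∀ x ∈ T, autMap (cs ^ j) x = s ^ j * x * (s ^ j)⁻¹ := by
        intro j
        induction j with
        | zero => intro x hx; rw [pow_zero, FusionSys.autMap_one hx, pow_zero]; group
        | succ j ihj =>
          intro x hx
          rw [pow_succ, autMap_mul _ _ hx, ihj _ (autMap_mem _ hx), hcse x hx, conjMap_apply, pow_succ]
          group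
      refine aut_ext fun x hx => ?_
      rw [key _ x hx, show s ^ Nat.card S = 1 from congrArg Subtype.val
        (pow_card_eq_one' (x := (⟨s, hsS⟩ : S))), FusionSys.autMap_one hx]
      group
    obtain ⟨l, hl⟩ := IsPGroup.iff_card.1 hS
    have h2 : (⟨cs, hcs⟩ : F.autGroup T) ^ p ^ l = 1 := Subtype.ext (by
      rw [SubgroupClass.coe_pow, ← hl]; exact h1)
    rw [hk, map_mul, map_mul, map_inv, aut_pMap_eq_one hΔ χ h2, mul_one, inv_mul_cancel]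
  have hkφ : ∀ t ∈ R₂, φ₀ (autMap δ t) = autMap (k : MulAut T) (φ₀ t) := fun t ht => by
    have hdt := autMap_mem δ ht
    have h1 := hgs t ht
    rw [hφ₀e _ hdt, hφ₀e t ht] at h1
    have hφt : φ₀ t ∈ T := hφ₀.mem_S ht
    rw [hk]
    simp only [Subgroup.coe_mul, Subgroup.coe_inv]
    rw [autMap_mul _ _ hφt, autMap_mul _ _ (autMap_mem _ hφt), hcse _ (autMap_mem _ hφt),
      conjMap_apply, ← h1, ← autMap_mul _ _ (hφ₀.mem_S hdt), inv_mul_cancel,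
      FusionSys.autMap_one (hφ₀.mem_S hdt)]
  obtain ⟨φ₁, hφ₁, hφ₁e⟩ := invariant_map hE k.2 hφ₀
  obtain ⟨u, hu, huφ, -⟩ := hφ₀.isIso.exists_symm
  set R₃ := imgSub (autMap (k : MulAut T)) R₂ with hR₃
  have hkR₂ : IsMap F R₂ (autMap (k : MulAut T)) := (isIso_autMap hTS k.2).isMap.mono hR₂T
  have hφ₁im : ∀ y ∈ R₃, φ₁ y ∈ imgSub φ₀ R₂ := fun y hy => by
    obtain ⟨t, ht, rfl⟩ := hkR₂.mem_imgSub.1 hy
    rw [hφ₁e t ht, ← hkφ t ht]
    exact hφ₀.mem_imgSub.2 ⟨_, autMap_mem δ ht, rfl⟩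
  have hem : IsMap E R₃ (ψ₂ ∘ (u ∘ φ₁)) :=
    (hφ₁.comp hu.isMap hφ₁im).comp hψ₂ fun y hy => hu.mem (hφ₁im y hy)
  have hcard : Nat.card R₃ = Nat.card R₂ := hkR₂.isIso.card_eq.symm
  have hR₃T : R₃ ≤ T := hem.le
  have key := ih (Nat.card T - Nat.card R₃) (by
      have h1 : Nat.card R < Nat.card R₂ := Cfsg.Agent.H89.card_lt_card_of_lt hlt
      have h2 : Nat.card R₂ ≤ Nat.card T := Subgroup.card_le_of_le hR₂T
      omega) R₃ hR₃T ((hR.mono hlt.le).of_isConj hkR₂.isIso.isConj) (b * k⁻¹) _ hem (fun y hy => by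
    obtain ⟨t, ht, rfl⟩ := hkR₂.mem_imgSub.1 hy
    rw [Subgroup.coe_mul, Subgroup.coe_inv, autMap_mul _ _ (autMap_mem _ (hR₂T ht)),
      ← autMap_mul _ _ (hR₂T ht), inv_mul_cancel, FusionSys.autMap_one (hR₂T ht), Function.comp_apply,
      Function.comp_apply, hφ₁e t ht, ← hkφ t ht, huφ _ (autMap_mem δ ht), hδe t ht,
      Function.comp_apply, hψv _ (hbB t ht)]) rfl
  rwa [map_mul, map_inv, hkp, inv_one, mul_one] at key

variable (hS : IsPGroup p S) (hF : F.IsSaturated p) (hEs : E.IsSaturated p) (hE : E.IsInvariantIn F)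
  (hΔ : (Nat.card Δ).Coprime p) (χ : F.autGroup T →* Δ)
  (hker : ∀ a : F.autGroup T, (a : MulAut T) ∈ E.autGroup T → χ a = 1)
include hS hF hEs hE hΔ hker

theorem Val.unique {P : Subgroup Ω} (hP : Ctr F T (P ⊓ T)) {f : Ω → Ω} {d d' : Δ}
    (h : Val F E χ P f d) (h' : Val F E χ P f d') : d = d' := by
  obtain ⟨a, rfl, φ, hφ, he⟩ := h
  obtain ⟨a', rfl, φ', hφ', he'⟩ := h'
  obtain ⟨u, hu, huφ, -⟩ := hφ.isIso.exists_symm
  have key := value_eq_one hS hF hEs hE hΔ χ hker (imgSub φ (P ⊓ T)) hφ.imgSub_le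
    (hP.of_isConj (isIso_of_sub hE.1 hφ.isIso).isConj) (a'⁻¹ * a) (φ' ∘ u)
    (hu.isMap.comp hφ' fun y hy => hu.mem hy) fun y hy => by
      obtain ⟨x, hx, rfl⟩ := hφ.mem_imgSub.1 hy
      rw [Function.comp_apply, huφ x hx, Subgroup.coe_mul, Subgroup.coe_inv,
        autMap_mul _ _ (hφ.mem_S hx), ← he x hx, he' x hx, ← autMap_mul _ _ (hφ'.mem_S hx),
        inv_mul_cancel, FusionSys.autMap_one (hφ'.mem_S hx)]
  rw [map_mul, map_inv, inv_mul_eq_one] at key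
  exact key.symm

omit hS hF hEs hΔ hker in
theorem Val.exists {P : Subgroup Ω} {f : Ω → Ω} (hf : IsMap F P f) : ∃ d, Val F E χ P f d := by
  obtain ⟨a, ha, φ, hφ, he⟩ := frattini_map hE (inf_le_right : P ⊓ T ≤ T) (hf.mono inf_le_left)
  exact ⟨_, ⟨a, ha⟩, rfl, φ, hφ, he⟩

omit hS hF hEs hΔ hker in
theorem Val.comp {P Q : Subgroup Ω} {f g : Ω → Ω} {d d' : Δ} (hf : IsMap F P f)
    (hm : ∀ x ∈ P, f x ∈ Q) (h : Val F E χ P f d) (h' : Val F E χ Q g d') :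
    Val F E χ P (g ∘ f) (d' * d) := by
  obtain ⟨a, rfl, φ, hφ, he⟩ := h
  obtain ⟨a', rfl, φ', hφ', he'⟩ := h'
  have hfx : ∀ x ∈ P ⊓ T, f x ∈ Q ⊓ T := fun x hx => ⟨hm x hx.1,
    (stronglyClosed_iff.1 hE.2.1).2 (P ⊓ T) f inf_le_right (hf.mono inf_le_left) x hx⟩
  obtain ⟨ω, hω, hωe⟩ := invariant_map hE (Subgroup.inv_mem _ a.2) hφ'
  have haQ : IsMap F (Q ⊓ T) (autMap (a : MulAut T)⁻¹) :=
    (isIso_autMap hE.2.1.1 (Subgroup.inv_mem _ a.2)).isMap.mono inf_le_right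
  have hφim : ∀ x ∈ P ⊓ T, φ x ∈ imgSub (autMap (a : MulAut T)⁻¹) (Q ⊓ T) := fun x hx =>
    haQ.mem_imgSub.2 ⟨f x, hfx x hx, by
      rw [he x hx, ← autMap_mul _ _ (hφ.mem_S hx), inv_mul_cancel,
        FusionSys.autMap_one (hφ.mem_S hx)]⟩
  refine ⟨a' * a, map_mul _ _ _, ω ∘ φ, hφ.comp hω hφim, fun x hx => ?_⟩
  have hy : φ' (f x) ∈ T := hφ'.mem_S (hfx x hx)
  have hφe : φ x = autMap (a : MulAut T)⁻¹ (f x) := by
    rw [he x hx, ← autMap_mul _ _ (hφ.mem_S hx), inv_mul_cancel, FusionSys.autMap_one (hφ.mem_S hx)]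
  have hω' : ω (φ x) = autMap (a : MulAut T)⁻¹ (φ' (f x)) := by rw [hφe]; exact hωe _ (hfx x hx)
  rw [Function.comp_apply, Function.comp_apply, he' _ (hfx x hx), hω', Subgroup.coe_mul,
    autMap_mul _ _ (autMap_mem _ hy), ← autMap_mul _ _ hy, mul_inv_cancel, FusionSys.autMap_one hy]

omit hS hF hEs hE hΔ hker in
theorem Val.mono {P Q : Subgroup Ω} {f : Ω → Ω} {d : Δ} (h : Val F E χ Q f d) (hPQ : P ≤ Q) :
    Val F E χ P f d := by
  obtain ⟨a, ha, φ, hφ, he⟩ := h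
  exact ⟨a, ha, φ, hφ.mono (inf_le_inf_right T hPQ), fun x hx => he x ⟨hPQ hx.1, hx.2⟩⟩

omit hS hF hEs hE hΔ hker in
theorem Val.congr {P : Subgroup Ω} {f g : Ω → Ω} {d : Δ} (h : Val F E χ P f d)
    (he : ∀ x ∈ P, g x = f x) : Val F E χ P g d := by
  obtain ⟨a, ha, φ, hφ, hfe⟩ := h
  exact ⟨a, ha, φ, hφ, fun x hx => (he x hx.1).trans (hfe x hx)⟩

omit hS hF hEs hΔ hker in
theorem Val.id' (P : Subgroup Ω) : Val F E χ P id 1 :=
  ⟨1, map_one χ, id, isMap_id E inf_le_right, fun x hx => by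
    rw [Subgroup.coe_one, id_eq, FusionSys.autMap_one (Subgroup.mem_inf.1 hx).2]⟩

end Cfsg.Agent.H91.Theta
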