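import Cfsg.Agent.H91.Theta.Basic
import Cfsg.Agent.H91.CentFocal.Extend

/-!
The subsystem of maps of trivial value.
-/

set_option autoImplicit false
set_option linter.style.haveILetI false

namespace Cfsg.Agent.H91.Theta

open Cfsg Cfsg.FusionSystem Cfsg.Agent.FusionSys Cfsg.Agent.H91.CentFocal Cfsg.Agent.H91.CentSE
open Cfsg.FusionSystem (centralizerIn normalizerIn)

variable {Ω : Type*} [Group Ω] {S T : Subgroup Ω} {F : FusionSystem S} {E : FusionSystem T} {p : ℕ}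
  {Δ : Type*} [Group Δ] {χ : F.autGroup T →* Δ}

/-- `P ∩ T` contains the centralizers in `T` of all its conjugates. -/
def Hp (F : FusionSystem S) (T P : Subgroup Ω) : Prop := P ≤ S ∧ Ctr F T (P ⊓ T)

/-- The maps lying in every system containing the maps of trivial value on the subgroups in `Hp`. -/
def InF0 (F : FusionSystem S) (E : FusionSystem T) (χ : F.autGroup T →* Δ) (P : Subgroup Ω)
    (f : Ω → Ω) : Prop :=
  ∀ E' : FusionSystem S,
    (∀ Q g, Hp F T Q → IsMap F Q g → Val F E χ Q g 1 → IsMap E' Q g) → IsMap E' P f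

theorem InF0.isMap {P : Subgroup Ω} {f : Ω → Ω} (h : InF0 F E χ P f) : IsMap F P f :=
  h F fun _ _ _ hg _ => hg

theorem InF0.congr {P : Subgroup Ω} {f g : Ω → Ω} (h : InF0 F E χ P f) (he : ∀ x ∈ P, g x = f x) :
    InF0 F E χ P g := fun E' hE' => (h E' hE').congr he

theorem InF0.comp {P Q : Subgroup Ω} {f g : Ω → Ω} (hf : InF0 F E χ P f) (hg : InF0 F E χ Q g)
    (h : ∀ x ∈ P, f x ∈ Q) : InF0 F E χ P (g ∘ f) :=
  fun E' hE' => (hf E' hE').comp (hg E' hE') h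

theorem InF0.mono {P Q : Subgroup Ω} {f : Ω → Ω} (h : InF0 F E χ Q f) (hle : P ≤ Q) :
    InF0 F E χ P f := fun E' hE' => (h E' hE').mono hle

theorem InF0.conj {P : Subgroup Ω} (hP : P ≤ S) {a : Ω} (ha : a ∈ S) : InF0 F E χ P (conjMap a) :=
  fun E' _ => isMap_conj E' hP ha

theorem InF0.exists_inv {P : Subgroup Ω} {f : Ω → Ω} (h : InF0 F E χ P f) :
    ∃ g, InF0 F E χ (imgSub f P) g ∧ ∀ x ∈ P, g (f x) = x := by
  obtain ⟨g, hg, hgf⟩ := h.isMap.exists_inv
  refine ⟨g, fun E' hE' => ?_, hgf⟩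
  obtain ⟨g', hg', hgf'⟩ := (h E' hE').exists_inv
  refine hg'.congr fun y hy => ?_
  obtain ⟨x, hx, rfl⟩ := h.isMap.mem_imgSub.1 hy
  rw [hgf x hx, hgf' x hx]

/-- The subsystem. -/
def F0 (F : FusionSystem S) (E : FusionSystem T) (χ : F.autGroup T →* Δ) : FusionSystem S :=
  subSys F (fun P f => InF0 F E χ P f) (fun _ _ _ h he => h.congr he) (fun _ _ hP ha => InF0.conj hP ha)
    (fun _ _ _ _ _ _ hm h1 h2 => h1.comp h2 hm) (fun P Q f g hf hg hinv h => by
      obtain ⟨g', hg', hg'f⟩ := h.exists_inv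
      rw [← hf.eq_imgSub] at hg'
      refine hg'.congr fun y hy => ?_
      obtain ⟨x, hx, rfl⟩ := hf.exists_preimage hy
      rw [hinv x hx, hg'f x hx])

theorem isMap_F0_iff {P : Subgroup Ω} {f : Ω → Ω} : IsMap (F0 F E χ) P f ↔ InF0 F E χ P f := by
  constructor
  · rintro ⟨φ, ⟨-, h⟩, hφ⟩
    exact h.congr fun x hx => by rw [homFun_mem φ hx]; exact (hφ ⟨x, hx⟩).symm
  · intro h
    obtain ⟨φ, hφ, hφe⟩ := h.isMap
    exact ⟨φ, ⟨hφ, h.congr fun x hx => (homFun_mem φ hx).trans (hφe ⟨x, hx⟩)⟩, hφe⟩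

theorem F0_sub : (F0 F E χ).IsSubsystemOf F := fun _ _ hφ => hφ.1

theorem isMap_F0_of_val {P : Subgroup Ω} {f : Ω → Ω} (hP : Hp F T P) (hf : IsMap F P f)
    (h : Val F E χ P f 1) : IsMap (F0 F E χ) P f :=
  isMap_F0_iff.2 fun _ hE' => hE' P f hP hf h

variable [Finite S]

theorem Hp.of_map (hT : F.StronglyClosed T) {P Q : Subgroup Ω} (hP : Hp F T P) {f : Ω → Ω}
    (hf : IsMap F P f) (hm : ∀ x ∈ P, f x ∈ Q) (hQ : Q ≤ S) : Hp F T Q := by
  refine ⟨hQ, (hP.2.of_isConj (hf.mono (inf_le_left : P ⊓ T ≤ P)).isIso.isConj).mono fun y hy => ?_⟩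
  obtain ⟨x, hx, rfl⟩ := (hf.mono (inf_le_left : P ⊓ T ≤ P)).mem_imgSub.1 hy
  exact ⟨hm x hx.1, (stronglyClosed_iff.1 hT).2 (P ⊓ T) f inf_le_right (hf.mono inf_le_left) x hx⟩

theorem Hp.mono {P Q : Subgroup Ω} (hP : Hp F T P) (hle : P ≤ Q) (hQ : Q ≤ S) : Hp F T Q :=
  ⟨hQ, hP.2.mono (inf_le_inf_right T hle)⟩

theorem Hp.of_isConj (hT : F.StronglyClosed T) {P Q : Subgroup Ω} (hP : Hp F T P) (h : F.IsConj P Q) :
    Hp F T Q := by
  obtain ⟨f, hf⟩ := isConj_iff.1 h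
  exact hP.of_map hT hf.isMap (fun x hx => hf.mem hx) hf.target_le

theorem hp_top (hT : F.StronglyClosed T) : Hp F T S := by
  refine ⟨le_rfl, ?_⟩
  rw [inf_eq_right.2 hT.1]
  intro R hR
  obtain ⟨f, hf⟩ := isConj_iff.1 hR
  haveI := finite_of_le (S := S) hT.1
  rw [Subgroup.eq_of_le_of_card_ge (target_le_of_closed hT le_rfl hf) hf.card_eq.le]
  exact centralizerIn_le

variable [Fact p.Prime] [Finite Δ] (hS : IsPGroup p S) (hF : F.IsSaturated p) (hEs : E.IsSaturated p)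
  (hE : E.IsInvariantIn F) (hΔ : (Nat.card Δ).Coprime p)
  (hker : ∀ a : F.autGroup T, (a : MulAut T) ∈ E.autGroup T → χ a = 1)
include hS hF hEs hE hΔ hker

omit hF hEs hker in
theorem val_conj (P : Subgroup Ω) {s : Ω} (hs : s ∈ S) : Val F E χ P (conjMap s) 1 := by
  have hT := hE.2.1
  haveI := finite_of_le (S := S) hT.1
  obtain ⟨cs, hcs, hcse⟩ := (isIso_of_mapsTo (isMap_conj F hT.1 hs)
    fun x hx => conj_mem_closed hT hs hx).exists_aut
  obtain ⟨l, hl⟩ := IsPGroup.iff_card.1 hS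
  have key : ∀ j : ℕ, ∀ x ∈ T, autMap (cs ^ j) x = s ^ j * x * (s ^ j)⁻¹ := by
    intro j
    induction j with
    | zero => intro x hx; rw [pow_zero, FusionSys.autMap_one hx, pow_zero]; group
    | succ j ihj =>
      intro x hx
      rw [pow_succ, autMap_mul _ _ hx, ihj _ (autMap_mem _ hx), hcse x hx, conjMap_apply, pow_succ]
      group
  have h2 : (⟨cs, hcs⟩ : F.autGroup T) ^ p ^ l = 1 := Subtype.ext (by
    rw [SubgroupClass.coe_pow, Subgroup.coe_one]
    refine aut_ext fun x hx => ?_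
    rw [key _ x hx, ← hl, show s ^ Nat.card S = 1 from congrArg Subtype.val
      (pow_card_eq_one' (x := (⟨s, hs⟩ : S))), FusionSys.autMap_one hx]
    group)
  exact ⟨⟨cs, hcs⟩, aut_pMap_eq_one hΔ χ h2, id, isMap_id E inf_le_right,
    fun x hx => (hcse x hx.2).symm⟩

theorem val_inv {P : Subgroup Ω} (hP : Hp F T P) {f g : Ω → Ω} {d e : Δ} (hf : IsMap F P f)
    (hgf : ∀ x ∈ P, g (f x) = x) (h : Val F E χ P f d) (h' : Val F E χ (imgSub f P) g e) :
    e = d⁻¹ := by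
  have hc := Val.comp hE χ hf (fun x hx => hf.mem_imgSub.2 ⟨x, hx, rfl⟩) h h'
  exact eq_inv_of_mul_eq_one_left (Val.unique hS hF hEs hE hΔ χ hker hP.2
    (Val.congr χ hc fun x hx => (hgf x hx).symm) (Val.id' hE χ P))

/-- Maps of the subsystem on subgroups in `Hp` have trivial value. -/
theorem val_of_InF0 {P : Subgroup Ω} {f : Ω → Ω} (hP : Hp F T P) (h : InF0 F E χ P f) :
    Val F E χ P f 1 := by
  let F' : FusionSystem S := subSys F (fun P f => Hp F T P → Val F E χ P f 1)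
    (fun _ _ _ h he hP => Val.congr χ (h hP) he)
    (fun P a _ ha _ => val_conj hS hE hΔ P ha)
    (fun P Q f g hf hg hm h1 h2 hP => by
      have := Val.comp hE χ hf hm (h1 hP) (h2 (hP.of_map hE.2.1 hf hm hg.le))
      rwa [one_mul] at this)
    (fun P Q f g hf hg hinv h hQ => by
      have hP : Hp F T P := hQ.of_isConj hE.2.1 hg.isConj
      obtain ⟨e, he⟩ := Val.exists (P := Q) hE χ hg.isMap
      have := val_inv hS hF hEs hE hΔ hker hP hf.isMap hinv (h hP) (hf.eq_imgSub ▸ he)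
      rwa [this, inv_one] at he)
  obtain ⟨φ, ⟨-, hφ⟩, hφe⟩ := h F' fun Q g hQ hg hv => by
    obtain ⟨φ, hφ, hφe⟩ := hg
    exact ⟨φ, ⟨hφ, fun _ => Val.congr χ hv fun x hx => (homFun_mem φ hx).trans (hφe ⟨x, hx⟩)⟩, hφe⟩
  exact Val.congr χ (hφ hP) fun x hx => by rw [homFun_mem φ hx]; exact (hφe ⟨x, hx⟩).symm

omit hF hEs hker in
/-- An element of `χ`-kernel times one normalizing `Aut_S(T)`. -/
theorem autInducedBy_le_ker {a : F.autGroup T} (h : (a : MulAut T) ∈ autInducedBy S T) : χ a = 1 := by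
  obtain ⟨n, hn⟩ := isPGroup_autInducedBy hS T ⟨(a : MulAut T), h⟩
  exact aut_pMap_eq_one hΔ χ (n := n) (Subtype.ext (by
    rw [SubgroupClass.coe_pow, Subgroup.coe_one]
    exact congrArg Subtype.val hn))

omit hEs hker in
/-- Every value is taken on an automorphism of `S`. -/
theorem exists_aut_top (hχ : Function.Surjective χ) (d : Δ) :
    ∃ a ∈ F.autGroup S, Val F E χ S (autMap a) d := by
  have hT := hE.2.1
  haveI := finite_of_le (S := S) hT.1
  haveI := finite_autGroup F hT.1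
  have hTS : ∀ s ∈ S, s ∈ Subgroup.normalizer (T : Set Ω) := fun s hs =>
    mem_normalizer_of_maps fun x hx => conj_mem_closed hT hs hx
  have hTn : F.IsFullyNormalized T := by
    refine ⟨hT.1, fun Q _ => ?_⟩
    haveI := finite_of_le (S := S) (P := normalizerIn S T) normalizerIn_le
    exact Subgroup.card_le_of_le fun x hx => ⟨hx.1, hTS x hx.1⟩
  obtain ⟨-, Sy, hSy⟩ := isFullyAutomized_of_isFullyNormalized hS hF hTn
  have hle : (Sy : Subgroup (F.autGroup T)) ≤ χ.ker := fun a ha => by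
    rw [hSy] at ha
    exact autInducedBy_le_ker hS hE hΔ ha
  obtain ⟨β, rfl⟩ := hχ d
  have hβ : β ∈ Subgroup.normalizer ((Sy : Subgroup (F.autGroup T)) : Set (F.autGroup T)) ⊔ χ.ker := by
    exact (Sylow.normalizer_sup_eq_top' Sy hle).symm ▸ Subgroup.mem_top β
  obtain ⟨ν, hν, k, hk, hνk⟩ := Subgroup.mem_sup_of_normal_right.1 hβ
  obtain ⟨g, hg, hge⟩ := receptive_extend (receptive_of_isFullyNormalized hS hF hTn)
    (isIso_autMap hT.1 ν.2) (N := S) fun s hs => by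
      refine ⟨hs, hTS s hs, ?_⟩
      have hm : (⟨conjAut (hTS s hs), conjAut_mem_autGroup F hT.1 ⟨hs, hTS s hs⟩⟩ : F.autGroup T) ∈
          (Sy : Subgroup (F.autGroup T)) := by
        rw [hSy]
        exact mem_autInducedBy.2 ⟨s, hs, hTS s hs, rfl⟩
      have hc := (Subgroup.mem_normalizer_iff.1 hν _).1 hm
      rw [hSy] at hc
      obtain ⟨u, hu, hun, he⟩ := mem_autInducedBy.1 hc
      refine ⟨u, hu, fun y hy => ?_⟩
      have h1 := congrArg (fun α : MulAut T => autMap α (autMap (ν : MulAut T) y)) he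
      simp only [Subgroup.coe_subtype, Subgroup.coe_mul, Subgroup.coe_inv] at h1
      rw [autMap_conjAut _ (autMap_mem _ hy), conjMap_apply, autMap_mul _ _ (autMap_mem _ hy),
        autMap_mul _ _ (autMap_mem _ (autMap_mem _ hy)), ← autMap_mul _ _ hy, inv_mul_cancel,
        FusionSys.autMap_one hy, autMap_conjAut _ hy, conjMap_apply] at h1
      exact h1
  replace hg : IsMap F S g := hg.mono le_sup_left
  obtain ⟨a, ha, hae⟩ := (isIso_of_mapsTo hg fun x hx => hg.mem_S hx).exists_aut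
  refine ⟨a, ha, ν, ?_, id, isMap_id E inf_le_right, fun x hx => ?_⟩
  · rw [← hνk, map_mul, MonoidHom.mem_ker.1 hk, mul_one]
  · rw [hae x hx.1, hge x hx.2]; rfl

omit hF in
/-- The subsystem is normalized by the automorphisms of `S`. -/
theorem InF0.twist {a : MulAut S} (ha : a ∈ F.autGroup S) {P : Subgroup Ω} {f : Ω → Ω}
    (h : InF0 F E χ P f) (hF' : F.IsSaturated p) :
    ∃ g, InF0 F E χ (imgSub (autMap a) P) g ∧ ∀ x ∈ P, g (autMap a x) = autMap a (f x) := by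
  have ham : IsMap F S (autMap a) := (mem_autGroup_iff le_rfl).1 ha
  have hT := hE.2.1
  let F' : FusionSystem S := subSys F (fun P f => ∃ g, InF0 F E χ (imgSub (autMap a) P) g ∧
      ∀ x ∈ P, g (autMap a x) = autMap a (f x))
    (fun P f f' ⟨g, hg, hge⟩ he => ⟨g, hg, fun x hx => by rw [hge x hx, he x hx]⟩)
    (fun P s hP hs => ⟨conjMap (autMap a s), InF0.conj ((ham.mono hP).imgSub_le) (autMap_mem a hs),
      fun x hx => by
        rw [conjMap_apply, conjMap_apply, ham.map_conj hs (hP hx)]⟩)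
    (fun P Q u v hu hv hm ⟨g, hg, hge⟩ ⟨k, hk, hke⟩ => by
      refine ⟨k ∘ g, hg.comp hk fun y hy => ?_, fun x hx => ?_⟩
      · obtain ⟨x, hx, rfl⟩ := (ham.mono hu.le).mem_imgSub.1 hy
        rw [hge x hx]
        exact (ham.mono hv.le).mem_imgSub.2 ⟨u x, hm x hx, rfl⟩
      · rw [Function.comp_apply, Function.comp_apply, hge x hx, hke _ (hm x hx)])
    (fun P Q u v hu hv hinv ⟨g, hg, hge⟩ => by
      obtain ⟨g', hg', hg'g⟩ := hg.exists_inv
      have hP := hu.source_le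
      refine ⟨g', hg'.mono fun y hy => ?_, fun z hz => ?_⟩
      · obtain ⟨z, hz, rfl⟩ := (ham.mono hu.target_le).mem_imgSub.1 hy
        obtain ⟨x, hx, rfl⟩ := hu.exists_preimage hz
        exact hg.isMap.mem_imgSub.2 ⟨_, (ham.mono hP).mem_imgSub.2 ⟨x, hx, rfl⟩, hge x hx⟩
      · obtain ⟨x, hx, rfl⟩ := hu.exists_preimage hz
        rw [hinv x hx, ← hge x hx, hg'g _ ((ham.mono hP).mem_imgSub.2 ⟨x, hx, rfl⟩)])
  obtain ⟨φ, ⟨-, g, hg, hge⟩, hφe⟩ := h F' fun Q u hQ hu hv => by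
    obtain ⟨φ, hφ, hφe⟩ := hu
    have hQS := hQ.1
    have hum : IsMap F Q u := ⟨φ, hφ, hφe⟩
    have haQ := ham.mono hQS
    obtain ⟨k, hk, hka⟩ := haQ.exists_inv
    have hQ' : Hp F T (imgSub (autMap a) Q) := hQ.of_isConj hT haQ.isIso.isConj
    have hkim : ∀ y ∈ imgSub (autMap a) Q, k y ∈ Q := fun y hy => by
      obtain ⟨x, hx, rfl⟩ := haQ.mem_imgSub.1 hy
      exact (hka x hx).symm ▸ hx
    have hm : IsMap F (imgSub (autMap a) Q) (autMap a ∘ (u ∘ k)) :=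
      (hk.comp hum hkim).comp ham fun y hy => hum.mem_S (hkim y hy)
    obtain ⟨d₁, hd₁⟩ := Val.exists (P := imgSub (autMap a) Q) hE χ hk
    obtain ⟨d₂, hd₂⟩ := Val.exists (P := S) hE χ ham
    have h1 := val_inv hS hF' hEs hE hΔ hker hQ haQ hka (Val.mono χ hd₂ hQS) hd₁
    have hv' := Val.comp hE χ (hk.comp hum hkim) (fun y hy => hum.mem_S (hkim y hy))
      (Val.comp hE χ hk hkim hd₁ hv) hd₂
    rw [one_mul, h1, mul_inv_cancel] at hv'
    refine ⟨φ, ⟨hφ, _, fun E' hE' => hE' _ _ hQ' hm hv', fun x hx => ?_⟩, hφe⟩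
    rw [Function.comp_apply, Function.comp_apply, hka x hx, homFun_mem φ hx, hφe ⟨x, hx⟩]
  exact ⟨g, hg, fun x hx => by rw [hge x hx, homFun_mem φ hx]; exact congrArg _ (hφe ⟨x, hx⟩)⟩

/-- Every map is an automorphism of `S` after a map of the subsystem. -/
theorem decompose (hχ : Function.Surjective χ) {P : Subgroup Ω} {f : Ω → Ω} (hf : IsMap F P f) :
    ∃ a ∈ F.autGroup S, ∃ g, InF0 F E χ P g ∧ ∀ x ∈ P, f x = autMap a (g x) := by
  let F' : FusionSystem S := subSys F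
    (fun P f => ∃ a ∈ F.autGroup S, ∃ g, InF0 F E χ P g ∧ ∀ x ∈ P, f x = autMap a (g x))
    (fun P f f' ⟨a, ha, g, hg, hge⟩ he => ⟨a, ha, g, hg, fun x hx => (he x hx).trans (hge x hx)⟩)
    (fun P s hP hs => ⟨1, Subgroup.one_mem _, conjMap s, InF0.conj hP hs, fun x hx => by
      rw [FusionSys.autMap_one ((isMap_conj F hP hs).mem_S hx)]⟩)
    (fun P Q u v hu hv hm ⟨a, ha, g, hg, hge⟩ ⟨b, hb, k, hk, hke⟩ => by
      obtain ⟨k', hk', hk'e⟩ := hk.twist hS hEs hE hΔ hker (Subgroup.inv_mem _ ha) hF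
      have hgS : ∀ x ∈ P, g x ∈ S := fun x hx => hg.isMap.mem_S hx
      have hgQ : ∀ x ∈ P, g x = autMap a⁻¹ (u x) := fun x hx => by
        rw [hge x hx, ← autMap_mul _ _ (hgS x hx), inv_mul_cancel, FusionSys.autMap_one (hgS x hx)]
      refine ⟨b * a, Subgroup.mul_mem _ hb ha, k' ∘ g, hg.comp hk' fun x hx => ?_, fun x hx => ?_⟩
      · rw [hgQ x hx]
        exact (((mem_autGroup_iff le_rfl).1 (Subgroup.inv_mem _ ha)).mono hv.le).mem_imgSub.2
          ⟨u x, hm x hx, rfl⟩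
      · have hks : k (u x) ∈ S := hk.isMap.mem_S (hm x hx)
        rw [Function.comp_apply, Function.comp_apply, hke _ (hm x hx), hgQ x hx,
          hk'e _ (hm x hx), autMap_mul _ _ (autMap_mem _ hks), ← autMap_mul a _ hks, mul_inv_cancel,
          FusionSys.autMap_one hks])
    (fun P Q u v hu hv hinv ⟨a, ha, g, hg, hge⟩ => by
      obtain ⟨g', hg', hg'g⟩ := hg.exists_inv
      obtain ⟨g'', hg'', hg''e⟩ := hg'.twist hS hEs hE hΔ hker ha hF
      have ham : IsMap F S (autMap a) := (mem_autGroup_iff le_rfl).1 ha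
      refine ⟨a⁻¹, Subgroup.inv_mem _ ha, g'', hg''.mono fun y hy => ?_, fun y hy => ?_⟩
      · obtain ⟨x, hx, rfl⟩ := hu.exists_preimage hy
        exact (ham.mono hg.isMap.imgSub_le).mem_imgSub.2
          ⟨g x, hg.isMap.mem_imgSub.2 ⟨x, hx, rfl⟩, (hge x hx).symm⟩
      · obtain ⟨x, hx, rfl⟩ := hu.exists_preimage hy
        have hxS : x ∈ S := hu.source_le hx
        rw [hinv x hx, hge x hx, hg''e _ (hg.isMap.mem_imgSub.2 ⟨x, hx, rfl⟩), hg'g x hx,
          ← autMap_mul _ _ hxS, inv_mul_cancel, FusionSys.autMap_one hxS])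
  suffices hle : F ≤ F' by
    obtain ⟨φ, ⟨-, a, ha, g, hg, hge⟩, hφe⟩ := le_iff_isMap.1 hle P f hf
    exact ⟨a, ha, g, hg, fun x hx => ((hφe ⟨x, hx⟩).symm.trans (homFun_mem φ hx).symm).trans (hge x hx)⟩
  refine le_of_autGroup_centricRadical hS hF fun Q hQn hQc hQr α hα => ?_
  have hQ : Hp F T Q := ⟨hQn.1, ctr_inf hS hF hE.2.1 hQc hQr⟩
  have hαm : IsMap F Q (autMap α) := (mem_autGroup_iff hQn.1).1 hα
  obtain ⟨d, hd⟩ := Val.exists (P := Q) hE χ hαm
  obtain ⟨a, ha, hav⟩ := exists_aut_top hS hF hE hΔ hχ d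
  obtain ⟨e, he⟩ := Val.exists (P := S) hE χ ((mem_autGroup_iff le_rfl).1 (Subgroup.inv_mem _ ha))
  have ham : IsMap F S (autMap a) := (mem_autGroup_iff le_rfl).1 ha
  have h1 := val_inv hS hF hEs hE hΔ hker (hp_top hE.2.1) ham
    (g := autMap a⁻¹) (fun x hx => by rw [← autMap_mul _ _ hx, inv_mul_cancel, FusionSys.autMap_one hx])
    hav (Val.mono χ he ham.imgSub_le)
  have hv := Val.comp hE χ hαm (fun x hx => hαm.mem_S hx) hd he
  rw [h1, inv_mul_cancel] at hv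
  have hm : IsMap F Q (autMap a⁻¹ ∘ autMap α) :=
    hαm.comp ((mem_autGroup_iff le_rfl).1 (Subgroup.inv_mem _ ha)) fun x hx => hαm.mem_S hx
  refine mem_autGroup_of_isMap ?_
  obtain ⟨φ, hφ, hφe⟩ := hαm
  refine ⟨φ, ⟨hφ, a, ha, _, fun E' hE' => hE' _ _ hQ hm hv, fun x hx => ?_⟩, hφe⟩
  have hxS : autMap α x ∈ S := hQn.1 (autMap_mem α hx)
  rw [homFun_mem φ hx, hφe ⟨x, hx⟩, Function.comp_apply, ← autMap_mul _ _ hxS, mul_inv_cancel,
    FusionSys.autMap_one hxS]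

end Cfsg.Agent.H91.Theta
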